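import Groth.Agent.SpDivLib.Pull
import Groth.Agent.CycLib.PushEquiv

/-!
# Specialisation commutes with proper push forward
-/

set_option autoImplicit false
set_option backward.isDefEq.respectTransparency false
set_option linter.style.haveILetI false
set_option linter.unusedSectionVars false

universe u

open CategoryTheory CategoryTheory.Limits AlgebraicGeometry TopologicalSpace

noncomputable section

namespace Groth.Agent.SpDivLib

open CycLib

theorem bijective_residueFieldMap_preimmersion {X Y : Scheme.{u}} (f : X ⟶ Y) [IsPreimmersion f] (x : X) :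
    Function.Bijective (f.residueFieldMap x) := by
  refine ⟨(f.residueFieldMap x).hom.injective, fun z => ?_⟩
  obtain ⟨s, rfl⟩ := IsLocalRing.residue_surjective z
  obtain ⟨t, ht⟩ := f.stalkMap_surjective x s
  exact ⟨IsLocalRing.residue _ t,
    (congrArg (fun φ => φ t) (Scheme.residue_residueFieldMap f x)).trans (congrArg (X.residue x) ht)⟩

theorem residueDegree_square_preimmersion {X Y Z W : Scheme.{u}} {p : X ⟶ Y} {q : Z ⟶ W} {i : Z ⟶ X} {j : W ⟶ Y}
    [IsPreimmersion i] [IsPreimmersion j] (e : q ≫ j = i ≫ p) (z : Z) :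
    q.residueDegree z = p.residueDegree (i z) := by
  rw [← residueDegree_comp_right q j z (bijective_residueFieldMap_preimmersion j _), residueDegree_congr e z,
    residueDegree_comp_left i p z (bijective_residueFieldMap_preimmersion i z)]

variable {R : Type u} [CommRing R] [IsDomain R] [IsDiscreteValuationRing R] {X Y : Scheme.{u}}
  (b : Y ⟶ Spec (CommRingCat.of R)) [LocallyOfFiniteType b] (f : X ⟶ Y) [IsProper f]

theorem normGen_gres (ξ : X) (t : R) :
    Cyc.normGen f ξ (gres (f ≫ b) ξ t) = gres b (f ξ) t ^ f.residueDegree ξ := by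
  rw [← residueFieldMap_gres f b ξ t]
  letI := (f.residueFieldMap ξ).hom.toAlgebra
  exact Algebra.norm_algebraMap (gres b (f ξ) t)

theorem divFun_pow {δ : Y → ℤ} [IsLocallyNoetherian Y] (hδ : Cyc.IsDimFun Y δ) (ξ y : Y) {g : Y.residueField ξ}
    (hg : g ≠ 0) (n : ℕ) : Cyc.divFun δ ξ (g ^ n) y = (n : ℤ) * Cyc.divFun δ ξ g y := by
  by_cases h : ξ ⤳ y ∧ δ y + 1 = δ ξ
  · rw [divFun_of h.1 h.2, divFun_of h.1 h.2, ← zpow_natCast, ordAt_zpow hδ h.1 h.2 hg]
  · rw [Cyc.divFun, Cyc.divFun, dif_neg h, dif_neg h, mul_zero]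

theorem spFun_map
    {δXη : ↥((f ≫ b).fiber (genericPoint ↥(Spec (CommRingCat.of R)))) → ℤ}
    {δXs : ↥((f ≫ b).fiber (IsLocalRing.closedPoint R)) → ℤ}
    {δYη : ↥(b.fiber (genericPoint ↥(Spec (CommRingCat.of R)))) → ℤ}
    {δYs : ↥(b.fiber (IsLocalRing.closedPoint R)) → ℤ}
    (hXη : Cyc.DeltaCompat ((f ≫ b).fiberToSpecResidueField (genericPoint ↥(Spec (CommRingCat.of R)))) δXη (fun _ => 0))
    (hXs : Cyc.DeltaCompat ((f ≫ b).fiberToSpecResidueField (IsLocalRing.closedPoint R)) δXs (fun _ => 0))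
    (hYη : Cyc.DeltaCompat (b.fiberToSpecResidueField (genericPoint ↥(Spec (CommRingCat.of R)))) δYη (fun _ => 0))
    (hYs : Cyc.DeltaCompat (b.fiberToSpecResidueField (IsLocalRing.closedPoint R)) δYs (fun _ => 0))
    [QuasiCompact (fib b f (genericPoint ↥(Spec (CommRingCat.of R))))]
    [QuasiCompact (fib b f (IsLocalRing.closedPoint R))]
    (r : ℤ) (α : AlgebraicCycle ((f ≫ b).fiber (genericPoint ↥(Spec (CommRingCat.of R)))) ℤ)
    (hα : α ∈ Cyc.Zk ((f ≫ b).fiber (genericPoint ↥(Spec (CommRingCat.of R)))) δXη r)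
    (β : AlgebraicCycle ((f ≫ b).fiber (IsLocalRing.closedPoint R)) ℤ)
    (hβ : ⇑β = Cyc.spFun (f ≫ b) (genericPoint ↥(Spec (CommRingCat.of R))) (IsLocalRing.closedPoint R) δXη δXs r ⇑α) :
    Cyc.spFun b (genericPoint ↥(Spec (CommRingCat.of R))) (IsLocalRing.closedPoint R) δYη δYs r
        ⇑(AlgebraicCycle.map (fib b f _) δXη δYη α) =
      ⇑(AlgebraicCycle.map (fib b f _) δXs δYs β) := by
  classical
  let η := genericPoint ↥(Spec (CommRingCat.of R))
  let s := IsLocalRing.closedPoint R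
  obtain ⟨ϖ, hϖ⟩ := IsDiscreteValuationRing.exists_irreducible R
  haveI : IsLocallyNoetherian Y := LocallyOfFiniteType.isLocallyNoetherian b
  haveI : IsLocallyNoetherian X := LocallyOfFiniteType.isLocallyNoetherian (f ≫ b)
  obtain ⟨δY, hδY⟩ := exists_deltaCompat b (dvrDelta R)
  obtain ⟨δX, hδX⟩ := exists_deltaCompat (f ≫ b) (dvrDelta R)
  have hsY : Cyc.IsSetup Y δY := isSetup_of_lft b (isSetup_dvr R) hδY
  have hsX : Cyc.IsSetup X δX := isSetup_of_lft (f ≫ b) (isSetup_dvr R) hδX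
  have hc : Cyc.DeltaCompat f δX δY := BivarLib.deltaCompat_of_comp f b hδX hδY
  let g := fib b f η
  let gs := fib b f s
  have sqη := fibre_congr b f η
  have sqs := fibre_congr b f s
  have hgf : ∀ ζ, f ((f ≫ b).fiberι η ζ) = b.fiberι η (g ζ) := fun ζ => congr($(sqη.w) ζ)
  have hgfs : ∀ z, f ((f ≫ b).fiberι s z) = b.fiberι s (gs z) := fun z => congr($(sqs.w) z)
  have hdη : ∀ ζ, δY (b.fiberι η ζ) = δYη ζ + 1 := fun ζ => by rw [delta_fibre b hδY _ hYη ζ, dvrDelta_generic]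
  have hdη' : ∀ ζ, δX ((f ≫ b).fiberι η ζ) = δXη ζ + 1 := fun ζ => by
    rw [delta_fibre (f ≫ b) hδX _ hXη ζ, dvrDelta_generic]
  have hds : ∀ z, δY (b.fiberι s z) = δYs z := fun z => by rw [delta_fibre b hδY _ hYs z, dvrDelta_closed, add_zero]
  have hds' : ∀ z, δX ((f ≫ b).fiberι s z) = δXs z := fun z => by
    rw [delta_fibre (f ≫ b) hδX _ hXs z, dvrDelta_closed, add_zero]
  have hαr : ∀ ζ, α ζ ≠ 0 → δXη ζ = r := fun ζ hne => not_imp_comm.1 (hα ζ) hne
  funext y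
  set y' := b.fiberι s y with hy'
  let DX : ↥((f ≫ b).fiber η) → ↥((f ≫ b).fiber s) → ℤ := fun ζ z =>
    Cyc.divFun δX ((f ≫ b).fiberι η ζ) (gres (f ≫ b) ((f ≫ b).fiberι η ζ) ϖ) ((f ≫ b).fiberι s z)
  let DY : ↥(b.fiber η) → ℤ := fun w => Cyc.divFun δY (b.fiberι η w) (gres b (b.fiberι η w) ϖ) y'
  let T : ↥((f ≫ b).fiber η) → ℤ := fun ζ => α ζ * (AlgebraicCycle.mapCoeff g δXη δYη ζ : ℤ) * DY (g ζ)
  have hmap : ∀ w, AlgebraicCycle.map g δXη δYη α w ≠ 0 → δYη w = r := fun w hne => by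
    rw [AlgebraicCycle.map, Function.locallyFinsupp.map_apply] at hne
    obtain ⟨ζ, hζ, hne'⟩ := exists_ne_zero_of_finsum_mem_ne_zero hne
    have h1 := hαr ζ (left_ne_zero_of_mul hne')
    have h2 := right_ne_zero_of_mul hne'
    rw [AlgebraicCycle.mapCoeff] at h2
    split_ifs at h2 with h
    · rw [← show g ζ = w from hζ, ← h, h1]
    · exact absurd Nat.cast_zero h2
  rw [show Cyc.spFun b _ _ δYη δYs r ⇑(AlgebraicCycle.map (fib b f _) δXη δYη α) y = _ from
    spFun_eq_finsum b hsY.2.2 hδY hYη hYs hϖ hmap y]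
  obtain ⟨U, hU, hyU⟩ := exists_affine y'
  haveI : QuasiCompact ((f ≫ b).fiberι η) := MorphismProperty.pullback_fst (P := @QuasiCompact) _ _ inferInstance
  let W₀ := α.locallyFiniteSupport.finite_inter_support_of_isCompact
    (((f ≫ b).fiberι η).isSpectralMap.2 (f ⁻¹ᵁ U).isOpen (f.isSpectralMap.2 U.isOpen hU.isCompact))
  let W := W₀.toFinset
  have hW : ∀ ζ, α ζ ≠ 0 → b.fiberι η (g ζ) ⤳ y' → ζ ∈ W := fun ζ hne hsp =>
    W₀.mem_toFinset.2 ⟨show f ((f ≫ b).fiberι η ζ) ∈ U by rw [hgf]; exact hsp.mem_open U.2 hyU, hne⟩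
  have lhs : ∑ᶠ w, AlgebraicCycle.map g δXη δYη α w * DY w = ∑ ζ ∈ W, T ζ := by
    have hsum : ∀ w, AlgebraicCycle.map g δXη δYη α w * DY w = ∑ ζ ∈ W.filter (fun ζ => g ζ = w), T ζ := fun w => by
      by_cases hD : DY w = 0
      · rw [hD, mul_zero, Finset.sum_eq_zero fun ζ hζ => by
          show _ * DY (g ζ) = 0
          rw [(Finset.mem_filter.1 hζ).2, hD, mul_zero]]
      rw [map_apply_eq_sum g α w W fun ζ hζ hne => hW ζ hne (by rw [hζ]; exact (specializes_of_divFun_ne_zero hD).1),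
        Finset.sum_mul, Finset.sum_filter]
      refine Finset.sum_congr rfl fun ζ _ => ?_
      by_cases h : g ζ = w
      · rw [Set.indicator_of_mem (show ζ ∈ g ⁻¹' {w} from h), if_pos h]
        show _ = _ * DY (g ζ)
        rw [h]
      · rw [Set.indicator_of_notMem (show ζ ∉ g ⁻¹' {w} from h), if_neg h, zero_mul]
    rw [finsum_congr hsum, finsum_eq_sum_of_support_subset _ (s := W.image g) fun w hw => ?_]
    · exact Finset.sum_fiberwise_of_maps_to (fun ζ hζ => Finset.mem_image_of_mem g hζ) T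
    · obtain ⟨ζ, hζ, -⟩ := Finset.exists_ne_zero_of_sum_ne_zero hw
      exact Finset.mem_image.2 ⟨ζ, (Finset.mem_filter.1 hζ).1, (Finset.mem_filter.1 hζ).2⟩
  rw [show (∑ᶠ w, AlgebraicCycle.map (fib b f _) δXη δYη α w * Cyc.divFun δY _ (gres b (b.fiberι _ w) ϖ) y') =
    ∑ ζ ∈ W, T ζ from lhs]
  have hkey : ∀ ζ, ∑ᶠ z ∈ gs ⁻¹' {y}, DX ζ z * (AlgebraicCycle.mapCoeff gs δXs δYs z : ℤ) =
      (AlgebraicCycle.mapCoeff g δXη δYη ζ : ℤ) * DY (g ζ) := fun ζ => by
    have hne : gres (f ≫ b) ((f ≫ b).fiberι η ζ) ϖ ≠ 0 :=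
      gres_ne_zero _ hϖ.ne_zero (SpFlat.apply_fiberι (f ≫ b) η ζ)
    have h := sum_divFun f hsX hsY hc ((f ≫ b).fiberι η ζ) _ hne y'
    have him : f ⁻¹' {y'} = (f ≫ b).fiberι s '' (gs ⁻¹' {y}) := Set.ext fun x => by
      refine ⟨fun hx => ?_, ?_⟩
      · obtain ⟨z, hz, hgz⟩ := Scheme.exists_preimage_of_isPullback sqs x y hx
        exact ⟨z, hgz, hz⟩
      · rintro ⟨z, hz, rfl⟩
        show f _ = y'
        rw [hgfs, show gs z = y from hz]
    rw [him, finsum_mem_image (((f ≫ b).fiberι s).isEmbedding.injective.injOn)] at h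
    have hco : ∀ z, AlgebraicCycle.mapCoeff f δX δY ((f ≫ b).fiberι s z) = AlgebraicCycle.mapCoeff gs δXs δYs z :=
      fun z => by
        rw [AlgebraicCycle.mapCoeff, AlgebraicCycle.mapCoeff, residueDegree_square_preimmersion sqs.w.symm z]
        exact if_congr (by rw [hds', show f.base ((f ≫ b).fiberι s z) = b.fiberι s (gs z) from hgfs z, hds]) rfl rfl
    rw [finsum_mem_congr rfl fun z _ => by rw [hco z]] at h
    refine h.trans ?_
    have hpow : Cyc.divFun δY (f ((f ≫ b).fiberι η ζ)) (Cyc.normGen f _ (gres (f ≫ b) ((f ≫ b).fiberι η ζ) ϖ)) y' =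
        (f.residueDegree ((f ≫ b).fiberι η ζ) : ℤ) * DY (g ζ) := by
      rw [normGen_gres, divFun_pow hsY.2.2 _ _
        (gres_ne_zero b hϖ.ne_zero (by rw [hgf]; exact SpFlat.apply_fiberι b η _))]
      refine congrArg _ ?_
      show _ = Cyc.divFun δY (b.fiberι η (g ζ)) (gres b (b.fiberι η (g ζ)) ϖ) y'
      exact congrArg (fun ξ => Cyc.divFun δY ξ (gres b ξ ϖ) y') (hgf ζ)
    rw [AlgebraicCycle.mapCoeff, hpow, residueDegree_square_preimmersion sqη.w.symm ζ]
    by_cases hcond : δXη ζ = δYη (g ζ)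
    · rw [if_pos (show δX ((f ≫ b).fiberι η ζ) = δY (f ((f ≫ b).fiberι η ζ)) by rw [hgf, hdη, hdη', hcond]),
        if_pos (show δXη ζ = δYη (g.base ζ) from hcond)]
    · rw [if_neg (show ¬δX ((f ≫ b).fiberι η ζ) = δY (f ((f ≫ b).fiberι η ζ)) from fun hh => hcond (by
          rw [hgf, hdη, hdη'] at hh; omega)),
        if_neg (show ¬δXη ζ = δYη (g.base ζ) from hcond), Nat.cast_zero, zero_mul]
  rw [AlgebraicCycle.map, Function.locallyFinsupp.map_apply]
  have hdiv : ∀ ζ z, gs z = y → DX ζ z ≠ 0 → b.fiberι η (g ζ) ⤳ y' := fun ζ z hz hne => by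
    have := (specializes_of_divFun_ne_zero hne).1.map f.continuous
    rwa [hgf, hgfs, hz] at this
  have hβz : ∀ z ∈ gs ⁻¹' {y}, β z = ∑ ζ ∈ W, α ζ * DX ζ z := fun z hz => by
    rw [show β z = _ from (congrFun hβ z).trans (spFun_eq_finsum (f ≫ b) hsX.2.2 hδX hXη hXs hϖ hαr z)]
    exact finsum_eq_sum_of_support_subset _ fun ζ hne => hW ζ (left_ne_zero_of_mul hne)
      (hdiv ζ z hz (right_ne_zero_of_mul hne))
  rw [finsum_mem_congr rfl fun z hz => by rw [hβz z hz, Finset.sum_mul]]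
  have hfin' : ∀ ζ ∈ W, (gs ⁻¹' {y} ∩ Function.support fun z =>
      α ζ * DX ζ z * (AlgebraicCycle.mapCoeff gs δXs δYs z : ℤ)).Finite := fun ζ _ => by
    haveI : QuasiCompact ((f ≫ b).fiberι s) := MorphismProperty.pullback_fst (P := @QuasiCompact) _ _ inferInstance
    let c := (Fam.single (δ := δX) (k := δX ((f ≫ b).fiberι η ζ) - 1) (ξ := (f ≫ b).fiberι η ζ)
      (sub_add_cancel _ _).symm (gres_ne_zero (f ≫ b) hϖ.ne_zero (SpFlat.apply_fiberι (f ≫ b) η ζ))).cycle hsX.2.2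
    refine ((c.locallyFiniteSupport.finite_inter_support_of_isCompact
      (f.isSpectralMap.2 U.isOpen hU.isCompact)).preimage ((f ≫ b).fiberι s).isEmbedding.injective.injOn).subset ?_
    rintro z ⟨hz, hne⟩
    refine ⟨?_, ?_⟩
    · show f ((f ≫ b).fiberι s z) ∈ U
      rw [hgfs, show gs z = y from hz]
      exact hyU
    · show (∑ᶠ _ : PUnit, Cyc.divFun δX _ _ ((f ≫ b).fiberι s z)) ≠ 0
      rw [finsum_unique]
      exact right_ne_zero_of_mul (left_ne_zero_of_mul hne)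
  rw [finsum_mem_def]
  rw [finsum_congr fun z => show (gs ⁻¹' {y}).indicator _ z = ∑ ζ ∈ W, (gs ⁻¹' {y}).indicator
    (fun z => α ζ * DX ζ z * (AlgebraicCycle.mapCoeff gs δXs δYs z : ℤ)) z from by
      by_cases hz : z ∈ gs ⁻¹' {y}
      · simp only [Set.indicator_of_mem hz]; rfl
      · simp only [Set.indicator_of_notMem hz, Finset.sum_const_zero]]
  rw [finsum_sum_comm _ _ fun ζ hζ => by
    rw [Function.HasFiniteSupport, Set.support_indicator]
    exact hfin' ζ hζ]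
  simp only [← finsum_mem_def]
  refine Finset.sum_congr rfl fun ζ _ => ?_
  rw [show T ζ = α ζ * ((AlgebraicCycle.mapCoeff g δXη δYη ζ : ℤ) * DY (g ζ)) from mul_assoc _ _ _, ← hkey ζ,
    mul_finsum_mem]
  exact finsum_mem_congr rfl fun z _ => (mul_assoc _ _ _).symm

end Groth.Agent.SpDivLib
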