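import Groth.Agent.SpDivLib.Basic
import Groth.Agent.CycLib.Chern.Pull

/-!
# Specialisation commutes with flat pullback
-/

set_option autoImplicit false
set_option backward.isDefEq.respectTransparency false
set_option linter.style.haveILetI false
set_option linter.unusedSectionVars false

universe u

open CategoryTheory CategoryTheory.Limits AlgebraicGeometry TopologicalSpace

noncomputable section

namespace Groth.Agent.SpDivLib

open CycLib

variable {R : Type u} [CommRing R] [IsDomain R] [IsDiscreteValuationRing R] {X' X : Scheme.{u}}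
  (b : X ⟶ Spec (CommRingCat.of R)) [LocallyOfFiniteType b] (f : X' ⟶ X) [Flat f] [LocallyOfFiniteType f]

/-- The map of fibres. -/
abbrev fib (s : ↥(Spec (CommRingCat.of R))) : (f ≫ b).fiber s ⟶ b.fiber s :=
  pullback.map (f ≫ b) ((Spec (CommRingCat.of R)).fromSpecResidueField s) b
    ((Spec (CommRingCat.of R)).fromSpecResidueField s) f (𝟙 _) (𝟙 _) (Category.comp_id _)
    ((Category.comp_id _).trans (Category.id_comp _).symm)

theorem spFun_pullFun (e : ℕ) (he : Cyc.HasRelDim f e)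
    {δ'η : ↥((f ≫ b).fiber (genericPoint ↥(Spec (CommRingCat.of R)))) → ℤ}
    {δ's : ↥((f ≫ b).fiber (IsLocalRing.closedPoint R)) → ℤ}
    {δη : ↥(b.fiber (genericPoint ↥(Spec (CommRingCat.of R)))) → ℤ}
    {δs : ↥(b.fiber (IsLocalRing.closedPoint R)) → ℤ}
    (h1 : Cyc.DeltaCompat ((f ≫ b).fiberToSpecResidueField (genericPoint ↥(Spec (CommRingCat.of R)))) δ'η (fun _ => 0))
    (h2 : Cyc.DeltaCompat ((f ≫ b).fiberToSpecResidueField (IsLocalRing.closedPoint R)) δ's (fun _ => 0))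
    (h3 : Cyc.DeltaCompat (b.fiberToSpecResidueField (genericPoint ↥(Spec (CommRingCat.of R)))) δη (fun _ => 0))
    (h4 : Cyc.DeltaCompat (b.fiberToSpecResidueField (IsLocalRing.closedPoint R)) δs (fun _ => 0))
    (r : ℤ) (α : AlgebraicCycle (b.fiber (genericPoint ↥(Spec (CommRingCat.of R)))) ℤ)
    (hα : α ∈ Cyc.Zk (b.fiber (genericPoint ↥(Spec (CommRingCat.of R)))) δη r) :
    Cyc.spFun (f ≫ b) (genericPoint ↥(Spec (CommRingCat.of R))) (IsLocalRing.closedPoint R) δ'η δ's (r + e)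
        (Cyc.pullFun (fib b f _) δ'η δη e ⇑α) =
      Cyc.pullFun (fib b f _) δ's δs e
        (Cyc.spFun b (genericPoint ↥(Spec (CommRingCat.of R))) (IsLocalRing.closedPoint R) δη δs r ⇑α) := by
  classical
  let η := genericPoint ↥(Spec (CommRingCat.of R))
  let s := IsLocalRing.closedPoint R
  obtain ⟨ϖ, hϖ⟩ := IsDiscreteValuationRing.exists_irreducible R
  haveI : IsLocallyNoetherian X := LocallyOfFiniteType.isLocallyNoetherian b
  haveI : IsLocallyNoetherian X' := LocallyOfFiniteType.isLocallyNoetherian (f ≫ b)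
  obtain ⟨δ, hδ⟩ := exists_deltaCompat b (dvrDelta R)
  obtain ⟨δ', hδ'⟩ := exists_deltaCompat (f ≫ b) (dvrDelta R)
  have hset : Cyc.IsSetup X δ := isSetup_of_lft b (isSetup_dvr R) hδ
  have hset' : Cyc.IsSetup X' δ' := isSetup_of_lft (f ≫ b) (isSetup_dvr R) hδ'
  have hsh : IsShift f δ' δ e := IsShift.of_relDim hset' hset e he (BivarLib.deltaCompat_of_comp f b hδ' hδ)
  let g := fib b f η
  let gs := fib b f s
  have sqη := fibre_congr b f η
  have sqs := fibre_congr b f s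
  haveI : Flat g := MorphismProperty.of_isPullback sqη (inferInstance : Flat f)
  haveI : LocallyOfFiniteType (b.fiberToSpecResidueField η) := MorphismProperty.pullback_snd _ _ inferInstance
  haveI : LocallyOfFiniteType ((f ≫ b).fiberToSpecResidueField η) := MorphismProperty.pullback_snd _ _ inferInstance
  have hsetη : Cyc.IsSetup (b.fiber η) δη := isSetup_of_lft _ (isSetup_spec_field _) h3
  have hsetη' : Cyc.IsSetup ((f ≫ b).fiber η) δ'η := isSetup_of_lft _ (isSetup_spec_field _) h1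
  haveI := hsetη.1
  haveI := hsetη'.1
  have hgf : ∀ ζ, f ((f ≫ b).fiberι η ζ) = b.fiberι η (g ζ) := fun ζ => congr($(sqη.w) ζ)
  have hgfs : ∀ z, f ((f ≫ b).fiberι s z) = b.fiberι s (gs z) := fun z => congr($(sqs.w) z)
  have hdη : ∀ ζ, δ (b.fiberι η ζ) = δη ζ + 1 := fun ζ => by rw [delta_fibre b hδ _ h3 ζ, dvrDelta_generic]
  have hdη' : ∀ ζ, δ' ((f ≫ b).fiberι η ζ) = δ'η ζ + 1 := fun ζ => by
    rw [delta_fibre (f ≫ b) hδ' _ h1 ζ, dvrDelta_generic]
  have hds : ∀ z, δ (b.fiberι s z) = δs z := fun z => by rw [delta_fibre b hδ _ h4 z, dvrDelta_closed, add_zero]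
  have hds' : ∀ z, δ' ((f ≫ b).fiberι s z) = δ's z := fun z => by
    rw [delta_fibre (f ≫ b) hδ' _ h2 z, dvrDelta_closed, add_zero]
  have hrange : ∀ (ζ : ↥(b.fiber η)) (w : X'), f w = b.fiberι η ζ →
      ∃ w' : ↥((f ≫ b).fiber η), (f ≫ b).fiberι η w' = w ∧ g w' = ζ := fun ζ w hw =>
    Scheme.exists_preimage_of_isPullback sqη w ζ hw
  have hmax : ∀ ζ, MaxFib g ζ → MaxFib f ((f ≫ b).fiberι η ζ) := fun ζ hm w hw hwζ => by
    obtain ⟨w', rfl, hgw⟩ := hrange (g ζ) w (hw.trans (hgf ζ))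
    exact congrArg _ (hm w' hgw (((f ≫ b).fiberι η).isEmbedding.toIsInducing.specializes_iff.1 hwζ))
  have hshη : IsShift g δ'η δη e := fun ζ hm => by
    have h := hsh _ (hmax ζ hm)
    rw [hgf, hdη, hdη'] at h
    omega
  let α' := pullHom hshη hsetη'.2.2 α
  have hα' : ∀ ζ, α' ζ ≠ 0 → δ'η ζ = r + e := fun ζ hne => by
    change Cyc.pullFun g δ'η δη e ⇑α ζ ≠ 0 at hne
    rw [pullFun_apply] at hne
    split_ifs at hne with h
    · rw [h]
      by_contra hc
      exact left_ne_zero_of_mul hne (hα (g ζ) fun he => hc (by rw [he]))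
    · exact absurd rfl hne
  funext x
  rw [show Cyc.pullFun (fib b f η) δ'η δη e ⇑α = ⇑α' from rfl,
    spFun_eq_finsum (f ≫ b) hset'.2.2 hδ' h1 h2 hϖ hα' x]
  set y' := (f ≫ b).fiberι s x with hy'
  let G : ↥(b.fiber η) → ℤ := fun ζ => α ζ * Cyc.divFun δ (b.fiberι η ζ) (gres b (b.fiberι η ζ) ϖ) (f y')
  have hG : (Function.support G).Finite := finite_support_spFun b η α _ (f y')
  have hrhs : Cyc.pullFun gs δ's δs e (Cyc.spFun b η s δη δs r ⇑α) x =
      ∑ᶠ ζ, α ζ * Cyc.pullFun f δ' δ e (Cyc.divFun δ (b.fiberι η ζ) (gres b (b.fiberι η ζ) ϖ)) y' := by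
    have hcond : δ's x = δs (gs x) + e ↔ δ' y' = δ (f y') + e := by rw [hgfs, hds, hds']
    rw [pullFun_apply]
    by_cases hc : δ's x = δs (gs x) + e
    · rw [if_pos hc, spFun_eq_finsum b hset.2.2 hδ h3 h4 hϖ (fun ζ hne => not_imp_comm.1 (hα ζ) hne) (gs x),
        finsum_congr (g := G) (fun ζ => by simp only [G, hy', hgfs]; rfl), finsum_mul' _ _ hG]
      refine finsum_congr fun ζ => ?_
      rw [pullFun_apply, if_pos (hcond.1 hc), ← mul_assoc]
      exact congrArg (G ζ * ·) (mult_square sqs.w x (ker_fiberι_le b f s x)).symm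
    · rw [if_neg hc, finsum_eq_zero_of_forall_eq_zero fun ζ => ?_]
      rw [pullFun_apply, if_neg fun h => hc (hcond.2 h), mul_zero]
  rw [show Cyc.pullFun (fib b f s) δ's δs e (Cyc.spFun b (genericPoint _) (IsLocalRing.closedPoint R) δη δs r ⇑α) x =
    Cyc.pullFun gs δ's δs e (Cyc.spFun b η s δη δs r ⇑α) x from rfl, hrhs]
  let H : ↥((f ≫ b).fiber η) → ℤ := fun ζ =>
    α' ζ * Cyc.divFun δ' ((f ≫ b).fiberι η ζ) (gres (f ≫ b) ((f ≫ b).fiberι η ζ) ϖ) y'
  have hH : (Function.support H).Finite := finite_support_spFun (f ≫ b) η α' _ y'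
  have hper : ∀ ζ, α ζ * Cyc.pullFun f δ' δ e (Cyc.divFun δ (b.fiberι η ζ) (gres b (b.fiberι η ζ) ϖ)) y' =
      ∑ᶠ ζ' ∈ {ζ' | g ζ' = ζ}, H ζ' := fun ζ => by
    rw [pullFun_divFun hsh hset'.2.2 hset.2.2 (b.fiberι η ζ)
      (gres_ne_zero b hϖ.ne_zero (SpFlat.apply_fiberι b η ζ)) y']
    let S : Set ↥((f ≫ b).fiber η) := {ζ' | g ζ' = ζ ∧ MaxFib f ((f ≫ b).fiberι η ζ')}
    let F : ↥((f ≫ b).fiber η) → ℤ := fun ζ' =>
      mult f ((f ≫ b).fiberι η ζ') * Cyc.divFun δ' ((f ≫ b).fiberι η ζ') (gres (f ≫ b) ((f ≫ b).fiberι η ζ') ϖ) y'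
    let E : S → Over f (b.fiberι η ζ) := fun ζ' =>
      ⟨(f ≫ b).fiberι η ζ'.1, by rw [hgf, ζ'.2.1], ζ'.2.2⟩
    have hE : Function.Bijective E := by
      refine ⟨fun ζ' ζ'' h => Subtype.ext (((f ≫ b).fiberι η).isEmbedding.injective (congrArg Subtype.val h)), fun w => ?_⟩
      obtain ⟨w', hw', hgw⟩ := hrange ζ w.1 w.2.1
      exact ⟨⟨w', hgw, by rw [hw']; exact w.2.2⟩, Subtype.ext hw'⟩
    rw [← finsum_eq_of_bijective E hE (f := fun ζ' : S => F ζ'.1) fun ζ' => by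
      show F ζ'.1 = _
      rw [lift_gres], finsum_set_coe_eq_finsum_mem S]
    have hsub : ∀ ζ', ζ' ∈ S → α ζ * F ζ' = H ζ' := fun ζ' hζ' => by
      have hd := hsh _ hζ'.2
      rw [hgf, hdη, hdη'] at hd
      show _ = Cyc.pullFun g δ'η δη e ⇑α ζ' * _
      rw [pullFun_apply, if_pos (show δ'η ζ' = δη (g ζ') + e by omega), hζ'.1,
        show F ζ' = mult g ζ' * _ from congrArg (· * _) (mult_square sqη.w ζ' (ker_fiberι_le b f η ζ'))]
      exact (mul_assoc _ _ _).symm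
    by_cases h0 : α ζ = 0
    · rw [h0, zero_mul]
      symm
      refine finsum_mem_eq_zero_of_forall_eq_zero fun ζ' hζ' => ?_
      show Cyc.pullFun g δ'η δη e ⇑α ζ' * _ = 0
      rw [pullFun_apply, show g ζ' = ζ from hζ', h0]
      simp
    rw [mul_finsum_mem, finsum_mem_congr rfl hsub]
    refine finsum_mem_inter_support_eq' _ _ _ fun ζ' hne => ⟨fun h => h.1, fun h => ?_⟩
    have h1' := left_ne_zero_of_mul hne
    change Cyc.pullFun g δ'η δη e ⇑α ζ' ≠ 0 at h1'
    rw [pullFun_apply] at h1'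
    split_ifs at h1' with hc
    · refine ⟨h, hsh.maxFib_of_eq hset'.2.2 ?_⟩
      rw [hgf, hdη, hdη']
      omega
    · exact absurd rfl h1'
  rw [finsum_congr hper]
  let W := hH.toFinset
  rw [finsum_eq_sum_of_support_subset _ (s := W) (fun a ha => hH.mem_toFinset.2 ha),
    finsum_eq_sum_of_support_subset _ (s := W.image g) fun ζ hζ => ?_]
  · refine ((Finset.sum_fiberwise_of_maps_to (fun ζ' hζ' => Finset.mem_image_of_mem g hζ') H).symm.trans
      (Finset.sum_congr rfl fun ζ _ => ?_))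
    symm
    refine finsum_mem_eq_sum_of_inter_support_eq _ (Set.ext fun ζ' => ?_)
    simp [W]
    tauto
  · obtain ⟨ζ', hζ', hne⟩ := exists_ne_zero_of_finsum_mem_ne_zero hζ
    exact Finset.mem_image.2 ⟨ζ', hH.mem_toFinset.2 hne, hζ'⟩

end Groth.Agent.SpDivLib
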