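import Groth.Agent.CycLib.SpFlat
import Groth.Agent.CycLib.DivPull
import Groth.Agent.CycLib.PushRat
import Groth.Agent.TFOneLib.Special
import Groth.Agent.BivarLib.GysinCompat

/-!
# Specialisation as restriction of the divisor of the uniformiser
-/

set_option autoImplicit false
set_option backward.isDefEq.respectTransparency false
set_option linter.style.haveILetI false
set_option linter.unusedSectionVars false

universe u

open CategoryTheory CategoryTheory.Limits AlgebraicGeometry TopologicalSpace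

noncomputable section

namespace Groth.Agent.SpDivLib

open CycLib

variable {R : Type u} [CommRing R]

/-- An element of the base as a rational function on an integral closed subscheme. -/
def gres {X : Scheme.{u}} (a : X ⟶ Spec (CommRingCat.of R)) (ξ : X) (t : R) : X.residueField ξ :=
  X.residue ξ (TFOneLib.gt a ξ t)

theorem specMap_gt {X : Scheme.{u}} (a : X ⟶ Spec (CommRingCat.of R)) {y ξ : X} (h : ξ ⤳ y) (t : R) :
    Cyc.specMap y ξ h (TFOneLib.gt a y t) = gres a ξ t := by
  show X.residue ξ (X.presheaf.stalkSpecializes h (X.presheaf.germ ⊤ y trivial _)) = _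
  rw [TopCat.Presheaf.germ_stalkSpecializes_apply]
  rfl

theorem residueFieldMap_gres {X Y : Scheme.{u}} (f : X ⟶ Y) (b : Y ⟶ Spec (CommRingCat.of R)) (ξ : X) (t : R) :
    f.residueFieldMap ξ (gres b (f ξ) t) = gres (f ≫ b) ξ t := by
  refine (congrArg (fun φ => φ (TFOneLib.gt b (f ξ) t)) (Scheme.residue_residueFieldMap f ξ)).trans ?_
  show X.residue ξ (f.stalkMap ξ (Y.presheaf.germ ⊤ (f ξ) trivial _)) = _
  rw [Scheme.Hom.germ_stalkMap_apply]
  rfl

theorem lift_gres {X Y : Scheme.{u}} (f : X ⟶ Y) (b : Y ⟶ Spec (CommRingCat.of R)) {η : X} {ξ : Y} (e : f η = ξ)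
    (t : R) : lift f (gres b ξ t) e = gres (f ≫ b) η t := by
  subst e
  rw [lift, Scheme.residueFieldCongr_refl]
  exact residueFieldMap_gres f b η t

variable [IsDomain R] [IsDiscreteValuationRing R]

theorem gres_ne_zero {X : Scheme.{u}} (a : X ⟶ Spec (CommRingCat.of R)) {t : R} (ht : t ≠ 0) {ξ : X}
    (h : a ξ = genericPoint ↥(Spec (CommRingCat.of R))) : gres a ξ t ≠ 0 := fun e => by
  have h1 : ¬IsUnit (TFOneLib.gt a ξ t) := fun hu => (hu.map (X.residue ξ).hom).ne_zero e
  have he : TFOneLib.gt a ξ t = a.stalkMap ξ ((Spec (CommRingCat.of R)).presheaf.germ ⊤ (a ξ) trivial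
      ((Scheme.ΓSpecIso (CommRingCat.of R)).inv t)) :=
    (Scheme.Hom.germ_stalkMap_apply a ⊤ ξ trivial _).symm
  rw [he, isUnit_map_iff, ← (Spec (CommRingCat.of R)).mem_basicOpen_top, basicOpen_eq_of_affine',
    Iso.inv_hom_id_apply] at h1
  refine h1 ?_
  rw [h, genericPoint_eq_bot_of_affine]
  exact fun hmem => ht hmem

theorem map_maximalIdeal_closed {X : Scheme.{u}} (a : X ⟶ Spec (CommRingCat.of R)) {y : X}
    (hy : a y = IsLocalRing.closedPoint R) {ϖ : R} (hϖ : Irreducible ϖ) :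
    (IsLocalRing.maximalIdeal ((Spec (CommRingCat.of R)).presheaf.stalk (a y))).map (a.stalkMap y).hom =
      Ideal.span {TFOneLib.gt a y ϖ} := by
  set s := a y
  letI : Algebra (CommRingCat.of R) ((Spec (CommRingCat.of R)).presheaf.stalk s) :=
    StructureSheaf.stalkAlgebra (CommRingCat.of R) s
  haveI : IsLocalization.AtPrime ((Spec (CommRingCat.of R)).presheaf.stalk s) s.asIdeal :=
    StructureSheaf.IsLocalization.to_stalk (CommRingCat.of R) s
  rw [← IsLocalization.AtPrime.map_eq_maximalIdeal s.asIdeal ((Spec (CommRingCat.of R)).presheaf.stalk s),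
    show s.asIdeal = Ideal.span {ϖ} from (congrArg PrimeSpectrum.asIdeal hy).trans hϖ.maximalIdeal_eq,
    Ideal.map_span, Set.image_singleton, Ideal.map_span, Set.image_singleton]
  exact congrArg (fun r => Ideal.span {r}) (Scheme.Hom.germ_stalkMap_apply a ⊤ y trivial _)

variable {X : Scheme.{u}} (a : X ⟶ Spec (CommRingCat.of R)) [IsLocallyNoetherian X] {δ : X → ℤ}
  (hδd : Cyc.IsDimFun X δ) (hδ : Cyc.DeltaCompat a δ (dvrDelta R))
  {δη : ↥(a.fiber (genericPoint ↥(Spec (CommRingCat.of R)))) → ℤ}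
  (hη : Cyc.DeltaCompat (a.fiberToSpecResidueField (genericPoint ↥(Spec (CommRingCat.of R)))) δη (fun _ => 0))
  {δs : ↥(a.fiber (IsLocalRing.closedPoint R)) → ℤ}
  (hs : Cyc.DeltaCompat (a.fiberToSpecResidueField (IsLocalRing.closedPoint R)) δs (fun _ => 0))
  {ϖ : R} (hϖ : Irreducible ϖ)

include hδd hδ hη hs hϖ in
/-- Specialisation is the restriction of the divisor of the uniformiser. -/
theorem spFun_eq_finsum {r : ℤ} {α : ↥(a.fiber (genericPoint ↥(Spec (CommRingCat.of R)))) → ℤ}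
    (hα : ∀ ζ, α ζ ≠ 0 → δη ζ = r) (x : ↥(a.fiber (IsLocalRing.closedPoint R))) :
    Cyc.spFun a (genericPoint ↥(Spec (CommRingCat.of R))) (IsLocalRing.closedPoint R) δη δs r α x =
      ∑ᶠ ζ : ↥(a.fiber (genericPoint ↥(Spec (CommRingCat.of R)))),
        α ζ * Cyc.divFun δ (a.fiberι _ ζ) (gres a (a.fiberι _ ζ) ϖ) (a.fiberι _ x) := by
  classical
  have hdη : ∀ ζ, δ (a.fiberι (genericPoint ↥(Spec (CommRingCat.of R))) ζ) = δη ζ + 1 := fun ζ => by
    rw [delta_fibre a hδ _ hη ζ, dvrDelta_generic]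
  have hdy : δ (a.fiberι (IsLocalRing.closedPoint R) x) = δs x := by
    rw [delta_fibre a hδ _ hs x, dvrDelta_closed, add_zero]
  let y := a.fiberι (IsLocalRing.closedPoint R) x
  have hsupp : ∀ ζ, α ζ * Cyc.divFun δ (a.fiberι _ ζ) (gres a (a.fiberι _ ζ) ϖ) y ≠ 0 →
      δη ζ = r ∧ a.fiberι (genericPoint ↥(Spec (CommRingCat.of R))) ζ ⤳ y ∧ δs x = r := fun ζ hne => by
    have h1 := hα ζ (left_ne_zero_of_mul hne)
    obtain ⟨h2, h3⟩ := specializes_of_divFun_ne_zero (right_ne_zero_of_mul hne)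
    refine ⟨h1, h2, ?_⟩
    rw [hdη, h1, show δ y = δs x from hdy] at h3
    omega
  unfold Cyc.spFun
  by_cases hx : δs x = r
  swap
  · rw [if_neg hx, finsum_eq_zero_of_forall_eq_zero fun ζ => ?_]
    by_contra hne
    exact hx (hsupp ζ hne).2.2
  rw [if_pos hx]
  refine Eq.trans (finsum_congr fun ζ => ?_) (finsum_subtype_eq_finsum_cond
    (f := fun ζ => α ζ * Cyc.divFun δ (a.fiberι _ ζ) (gres a (a.fiberι _ ζ) ϖ) y)
    (fun ζ => δη ζ = r ∧ a.fiberι (genericPoint ↥(Spec (CommRingCat.of R))) ζ ⤳ y) |>.trans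
    (finsum_congr fun ζ => ?_))
  · have hd : δ y + 1 = δ (a.fiberι (genericPoint ↥(Spec (CommRingCat.of R))) ζ.1) := by
      rw [hdη, ζ.2.1, show δ y = δs x from hdy, hx]
    have hne : Cyc.specMap y _ ζ.2.2 (TFOneLib.gt a y ϖ) ≠ 0 := by
      rw [specMap_gt]
      exact gres_ne_zero a hϖ.ne_zero (SpFlat.apply_fiberι a _ ζ.1)
    show α ζ.1 * _ = α ζ.1 * Cyc.divFun δ (a.fiberι _ ζ.1) (gres a (a.fiberι _ ζ.1) ϖ) y
    rw [divFun_of ζ.2.2 hd, ← specMap_gt a ζ.2.2 ϖ, ordAt_specMap hδd ζ.2.2 hd hne, ← Ideal.map_map,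
      map_maximalIdeal_closed a (SpFlat.apply_fiberι a _ x) hϖ, Ideal.map_span, Set.image_singleton, Ring.ord]
    exact congrArg (fun n : ℕ∞ => α ζ.1 * (n.toNat : ℤ)) (Module.length_eq_of_surjective Ideal.Quotient.mk_surjective)
  · rw [finsum_eq_if]
    split_ifs with h
    · rfl
    · by_contra hne
      exact h ⟨(hsupp ζ (Ne.symm hne)).1, (hsupp ζ (Ne.symm hne)).2.1⟩

/-- A point is determined by its image in the total space. -/
theorem fibre_congr {X Y S : Scheme.{u}} (b : Y ⟶ S) (f : X ⟶ Y) (s : S) :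
    IsPullback ((f ≫ b).fiberι s) (pullback.map (f ≫ b) (S.fromSpecResidueField s) b (S.fromSpecResidueField s) f
      (𝟙 _) (𝟙 _) (Category.comp_id _) ((Category.comp_id _).trans (Category.id_comp _).symm)) f (b.fiberι s) := by
  refine IsPullback.of_bot ?_ (pullback.lift_fst _ _ _).symm (IsPullback.of_hasPullback b (S.fromSpecResidueField s))
  rw [pullback.lift_snd, Category.comp_id]
  exact IsPullback.of_hasPullback (f ≫ b) (S.fromSpecResidueField s)

/-- Fibre multiplicities do not change in a square of preimmersions. -/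
theorem mult_square {P T D S : Scheme.{u}} {h : T ⟶ S} {i : D ⟶ S} {j : P ⟶ T} {g : P ⟶ D} [IsPreimmersion i]
    [IsPreimmersion j] (w : j ≫ h = g ≫ i) (z : P) (hI : RingHom.ker (j.stalkMap z).hom ≤ fibIdeal h (j z)) :
    mult h (j z) = mult g z := by
  have he : h (j z) = i (g z) := by rw [← Scheme.Hom.comp_apply, w, Scheme.Hom.comp_apply]
  unfold mult
  rw [BivarLib.length_quot_map _ (j.stalkMap_surjective z) hI]
  refine congrArg (fun J => ((Module.length (P.presheaf.stalk z) (P.presheaf.stalk z ⧸ J)).toNat : ℤ)) ?_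
  have hcomm : (j.stalkMap z).hom.comp (h.stalkMap (j z)).hom =
      ((g.stalkMap z).hom.comp (i.stalkMap (g z)).hom).comp
        (S.presheaf.stalkSpecializes (specializes_of_eq he.symm)).hom := by
    rw [← CommRingCat.hom_comp, ← Scheme.Hom.stalkMap_comp, Scheme.Hom.stalkMap_congr_hom _ _ w,
      Scheme.Hom.stalkMap_comp]
    rfl
  rw [fibIdeal, fibIdeal, Ideal.map_map, hcomm, ← Ideal.map_map, ← Ideal.map_map]
  refine congrArg (Ideal.map _) ?_
  rw [Ideal.map_map]
  exact BivarLib.map_maximalIdeal_of_surjective _ (((i.stalkMap_surjective _).comp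
    (ConcreteCategory.bijective_of_isIso (S.presheaf.stalkCongr (.of_eq he)).hom).2))

/-- The kernel of the inclusion of a fibre is inside the ideals of the finer fibres. -/
theorem ker_fiberι_le {X Y S : Scheme.{u}} (b : Y ⟶ S) (f : X ⟶ Y) (s : S) (z : ↥((f ≫ b).fiber s)) :
    RingHom.ker (((f ≫ b).fiberι s).stalkMap z).hom ≤ fibIdeal f ((f ≫ b).fiberι s z) := by
  rw [(S9501.result (f ≫ b) s z).2]
  refine le_of_eq_of_le (congrArg (fun φ => Ideal.map φ _)
    (congrArg CommRingCat.Hom.hom (Scheme.Hom.stalkMap_comp f b ((f ≫ b).fiberι s z)))) ?_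
  rw [CommRingCat.hom_comp, ← Ideal.map_map]
  exact Ideal.map_mono (fibIdeal_le b _)

/-- The part of the generic fibre carrying a cycle near a point. -/
theorem finite_support_spFun {X : Scheme.{u}} (a : X ⟶ Spec (CommRingCat.of R)) {δ : X → ℤ}
    (s : ↥(Spec (CommRingCat.of R))) (α : AlgebraicCycle (a.fiber s) ℤ) (g : ∀ ζ, X.residueField (a.fiberι s ζ))
    (y : X) : (Function.support fun ζ => α ζ * Cyc.divFun δ (a.fiberι s ζ) (g ζ) y).Finite := by
  haveI : QuasiCompact (a.fiberι s) := MorphismProperty.pullback_fst (P := @QuasiCompact) _ _ inferInstance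
  obtain ⟨U, hU, hy⟩ := exists_affine y
  refine (α.locallyFiniteSupport.finite_inter_support_of_isCompact
    ((a.fiberι s).isSpectralMap.2 U.isOpen hU.isCompact)).subset fun ζ hζ => ⟨?_, left_ne_zero_of_mul hζ⟩
  exact (specializes_of_divFun_ne_zero (right_ne_zero_of_mul hζ)).1.mem_open U.2 hy

end Groth.Agent.SpDivLib
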